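import Groth.Agent.EtDescSplit.SplitCech
import Groth.Prelude.Def_EtFppf
import Groth.Prelude.Def_BigSite
import Mathlib.CategoryTheory.Preadditive.Injective.Basic
import Mathlib.CategoryTheory.Sites.Abelian

/-!
# The Cech functor of an fppf covering on the big fppf site
-/

set_option autoImplicit false

universe u

open CategoryTheory CategoryTheory.Limits AlgebraicGeometry Opposite

namespace Groth.Agent.EtFlatDesc

open EtDescSplit (pow powMap powMap_π powSimp powCx dd dd_apply d_eq pow_hom_ext aug map_op_comp)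

variable {X Y : Scheme.{u}} (f : X ⟶ Y)

/-- The cofree presheaf. -/
noncomputable def cofree (Q : (Over Y)ᵒᵖ ⥤ AddCommGrpCat.{u + 1}) : (Over Y)ᵒᵖ ⥤ AddCommGrpCat.{u + 1} where
  obj W := AddCommGrpCat.of (∀ T : Over Y, (T ⟶ W.unop) → Q.obj (op T))
  map m := AddCommGrpCat.ofHom (AddMonoidHom.mk' (fun x T h => x T (h ≫ m.unop)) fun _ _ => rfl)
  map_id W := AddCommGrpCat.hom_ext <| AddMonoidHom.ext fun x => funext₂ fun T h =>
    congrArg (x T) (Category.comp_id h)
  map_comp m m' := AddCommGrpCat.hom_ext <| AddMonoidHom.ext fun x => funext₂ fun T h =>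
    congrArg (x T) (Category.assoc h m'.unop m.unop).symm

/-- The embedding into the cofree presheaf. -/
noncomputable def toCofree (Q : (Over Y)ᵒᵖ ⥤ AddCommGrpCat.{u + 1}) : Q ⟶ cofree Q where
  app W := AddCommGrpCat.ofHom (AddMonoidHom.mk' (fun x T h => Q.map h.op x)
    fun x y => funext₂ fun T h => map_add (Q.map h.op).hom x y)
  naturality W W' m := AddCommGrpCat.hom_ext <| AddMonoidHom.ext fun x => funext₂ fun T h =>
    (ConcreteCategory.congr_hom (Q.map_comp m h.op) x).symm

theorem mono_toCofree (Q : (Over Y)ᵒᵖ ⥤ AddCommGrpCat.{u + 1}) : Mono (toCofree Q) := by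
  haveI : ∀ W, Mono ((toCofree Q).app W) := fun W => (AddCommGrpCat.mono_iff_injective _).2 fun a b h => by
    have h' := congrFun₂ h W.unop (𝟙 _)
    change Q.map (𝟙 W.unop).op a = Q.map (𝟙 W.unop).op b at h'
    rw [op_id, Q.map_id] at h'
    exact h'
  exact NatTrans.mono_of_mono_app _

/-- Prepending a factor. -/
theorem exists_cons {T : Over Y} (h₀ : T ⟶ pow f 0) (n : ℕ) (h : T ⟶ pow f n) :
    ∃ e : T ⟶ pow f (n + 1), e.left ≫ WidePullback.π (fun _ : Fin (n + 2) => f) 0 = h₀.left ≫ WidePullback.π (fun _ : Fin 1 => f) 0 ∧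
      ∀ i : Fin (n + 1), e.left ≫ WidePullback.π (fun _ : Fin (n + 2) => f) i.succ =
        h.left ≫ WidePullback.π (fun _ : Fin (n + 1) => f) i := by
  refine ⟨Over.homMk (WidePullback.lift T.hom
      (Fin.cons (h₀.left ≫ WidePullback.π (fun _ : Fin 1 => f) 0)
        fun i => h.left ≫ WidePullback.π (fun _ : Fin (n + 1) => f) i) ?_) (WidePullback.lift_base _ _ _ _),
    (WidePullback.lift_π _ _ _ _ _).trans (Fin.cons_zero _ _),
    fun i => (WidePullback.lift_π _ _ _ _ _).trans (Fin.cons_succ _ _ _)⟩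
  intro j
  induction j using Fin.cases with
  | zero =>
    rw [Fin.cons_zero, Category.assoc, WidePullback.π_arrow]
    exact Over.w h₀
  | succ i =>
    rw [Fin.cons_succ, Category.assoc, WidePullback.π_arrow]
    exact Over.w h

theorem dd_cofree_apply (Q : (Over Y)ᵒᵖ ⥤ AddCommGrpCat.{u + 1}) (n : ℕ)
    (x : (cofree Q).obj (op (pow f n))) (T : Over Y) (h : T ⟶ pow f (n + 1)) :
    (dd f (cofree Q) n x : ∀ T : Over Y, (T ⟶ pow f (n + 1)) → Q.obj (op T)) T h =
      ∑ i : Fin (n + 2), (-1 : ℤ) ^ (i : ℕ) •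
        ((show ∀ T : Over Y, (T ⟶ pow f n) → Q.obj (op T) from x) T (h ≫ powMap f i.succAbove)) := by
  let ev : (∀ T : Over Y, (T ⟶ pow f (n + 1)) → Q.obj (op T)) →+ Q.obj (op T) :=
    AddMonoidHom.mk' (fun z => z T h) fun _ _ => rfl
  show ev (dd f (cofree Q) n x) = _
  rw [dd_apply]
  refine (map_sum ev _ _).trans (Finset.sum_congr rfl fun i _ => ?_)
  exact (map_zsmul ev _ _).trans rfl

theorem cofree_primitive (Q : (Over Y)ᵒᵖ ⥤ AddCommGrpCat.{u + 1}) (n : ℕ)
    (x : (cofree Q).obj (op (pow f (n + 1)))) (hx : dd f (cofree Q) (n + 1) x = 0) :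
    ∃ y, dd f (cofree Q) n y = x := by
  classical
  let x' : ∀ T : Over Y, (T ⟶ pow f (n + 1)) → Q.obj (op T) := x
  have hne : ∀ {m : ℕ} {T : Over Y}, (T ⟶ pow f m) → Nonempty (T ⟶ pow f 0) := fun {m T} h =>
    ⟨h ≫ powMap f (fun _ : Fin 1 => (0 : Fin (m + 1)))⟩
  let a : ∀ {m : ℕ} {T : Over Y}, (T ⟶ pow f m) → (T ⟶ pow f 0) := fun {m T} h => (hne h).some
  choose e he₀ he₁ using fun (m : ℕ) (T : Over Y) (h : T ⟶ pow f m) => exists_cons f (a h) m h
  refine ⟨(fun T h => x' T (e n T h) : ∀ T : Over Y, (T ⟶ pow f n) → Q.obj (op T)), funext₂ fun T h => ?_⟩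
  refine (dd_cofree_apply f Q n _ T h).trans ?_
  have key := (dd_cofree_apply f Q (n + 1) x T (e (n + 1) T h)).symm.trans (congrFun₂ hx T (e (n + 1) T h))
  have h0 : e (n + 1) T h ≫ powMap f (0 : Fin (n + 3)).succAbove = h := pow_hom_ext f fun i => by
    rw [Over.comp_left, Category.assoc, powMap_π, Fin.succAbove_zero]
    exact he₁ _ _ _ i
  have hs : ∀ j : Fin (n + 2), e (n + 1) T h ≫ powMap f j.succ.succAbove = e n T (h ≫ powMap f j.succAbove) :=
    fun j => pow_hom_ext f fun i => by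
      rw [Over.comp_left, Category.assoc, powMap_π]
      induction i using Fin.cases with
      | zero => rw [Fin.succ_succAbove_zero, he₀, he₀]
      | succ i => rw [Fin.succ_succAbove_succ, he₁, he₁, Over.comp_left, Category.assoc, powMap_π]
  rw [Fin.sum_univ_succ] at key
  simp only [h0, hs, Fin.val_succ, pow_succ, Fin.val_zero, pow_zero, one_smul] at key
  have key' : x' T h = ∑ j : Fin (n + 2), (-1 : ℤ) ^ (j : ℕ) • x' T (e n T (h ≫ powMap f j.succAbove)) := by
    simp only [mul_smul, neg_smul, one_smul, smul_neg, Finset.sum_neg_distrib] at key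
    exact sub_eq_zero.1 (by rw [sub_eq_add_neg]; exact key)
  exact key'.symm

theorem dd_natural {P Q : (Over Y)ᵒᵖ ⥤ AddCommGrpCat.{u + 1}} (φ : P ⟶ Q) (n : ℕ)
    (x : P.obj (op (pow f n))) : φ.app _ (dd f P n x) = dd f Q n (φ.app _ x) := by
  rw [dd_apply, dd_apply, map_sum]
  refine Finset.sum_congr rfl fun i _ => ?_
  rw [map_zsmul]
  exact congrArg (_ • ·) (φ.naturality_apply _ x)

/-- The Cech complex of an injective presheaf is exact. -/
theorem injective_primitive (P : (Over Y)ᵒᵖ ⥤ AddCommGrpCat.{u + 1}) [Injective P] (n : ℕ)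
    (x : P.obj (op (pow f (n + 1)))) (hx : dd f P (n + 1) x = 0) : ∃ y, dd f P n y = x := by
  haveI := mono_toCofree P
  let r : cofree P ⟶ P := Injective.factorThru (𝟙 P) (toCofree P)
  have hr : toCofree P ≫ r = 𝟙 P := Injective.comp_factorThru _ _
  obtain ⟨y, hy⟩ := cofree_primitive f P n ((toCofree P).app _ x)
    ((dd_natural f (toCofree P) (n + 1) x).symm.trans ((congrArg _ hx).trans (map_zero _)))
  refine ⟨r.app _ y, (dd_natural f r n y).symm.trans ((congrArg _ hy).trans ?_)⟩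
  exact ConcreteCategory.congr_hom (congrArg (fun t => t.app _) hr) x

/-- The Cech complex as a functor on fppf sheaves. -/
noncomputable def cechF : EtFppf.AbF Y ⥤ CochainComplex AddCommGrpCat.{u + 1} ℕ :=
  sheafToPresheaf (EtFppf.J Y) AddCommGrpCat.{u + 1} ⋙
    (Functor.whiskeringLeft SimplexCategory (Over Y)ᵒᵖ AddCommGrpCat.{u + 1}).obj (powSimp f).rightOp ⋙
    AlgebraicTopology.alternatingCofaceMapComplex AddCommGrpCat.{u + 1}

theorem cechF_obj (G : EtFppf.AbF Y) : (cechF f).obj G = powCx f G.obj := rfl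

instance : (cechF f).Additive where
  map_add {F G φ ψ} := HomologicalComplex.hom_ext _ _ fun n => rfl

theorem exactAt_cechF (Q : EtFppf.AbF Y) [Injective Q] (n : ℕ) : ((cechF f).obj Q).ExactAt (n + 1) := by
  haveI : PreservesFiniteLimits (presheafToSheaf (EtFppf.J Y) AddCommGrpCat.{u + 1}) := inferInstance
  haveI : (presheafToSheaf (EtFppf.J Y) AddCommGrpCat.{u + 1}).PreservesMonomorphisms := inferInstance
  haveI : Injective Q.obj :=
    Injective.injective_of_adjoint (sheafificationAdjunction (EtFppf.J Y) AddCommGrpCat.{u + 1}) Q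
  rw [cechF_obj, HomologicalComplex.exactAt_iff' _ n (n + 1) (n + 1 + 1) (by simp) (by simp),
    ShortComplex.ab_exact_iff]
  intro x hx
  obtain ⟨y, hy⟩ := injective_primitive f Q.obj n x ((d_eq f Q.obj (n + 1) x).symm.trans hx)
  exact ⟨y, (d_eq f Q.obj n y).trans hy⟩

/-- Global sections. -/
noncomputable abbrev secTop : EtFppf.AbF Y ⥤ AddCommGrpCat.{u + 1} :=
  sheafToPresheaf (EtFppf.J Y) AddCommGrpCat.{u + 1} ⋙
    (evaluation (Over Y)ᵒᵖ AddCommGrpCat.{u + 1}).obj (op (Over.mk (𝟙 Y)))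

variable [Flat f] [LocallyOfFinitePresentation f] [Surjective f]

theorem aug_mem : Sieve.ofArrows (fun _ : PUnit.{1} => pow f 0) (fun _ => aug f 0) ∈
    EtFppf.J Y (Over.mk (𝟙 Y)) := by
  rw [GrothendieckTopology.mem_over_iff]
  have hf : Presieve.singleton f ∈ Scheme.fppfPrecoverage Y := by
    show Presieve.singleton f ∈ Scheme.precoverage (@Flat ⊓ @LocallyOfFinitePresentation) Y
    rw [Scheme.singleton_mem_precoverage_iff]
    exact ⟨f.surjective, ⟨inferInstance, inferInstance⟩⟩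
  refine GrothendieckTopology.superset_covering _ ?_ (Precoverage.generate_mem_toGrothendieck hf)
  rw [Sieve.generate_le_iff]
  suffices h : Sieve.overEquiv (Over.mk (𝟙 Y)) (Sieve.ofArrows (fun _ : PUnit.{1} => pow f 0) (fun _ => aug f 0))
      (show X ⟶ (Over.mk (𝟙 Y)).left from f) by
    intro Z g hg
    induction hg
    exact h
  refine (Sieve.overEquiv_iff (Y := Over.mk (𝟙 Y)) _ (show X ⟶ (Over.mk (𝟙 Y)).left from f)).2 ?_
  refine (Sieve.mem_ofArrows_iff _ _ _).2 ⟨⟨⟩, Over.homMk (WidePullback.lift f (fun _ => 𝟙 X) (fun _ => Category.id_comp f))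
    ((WidePullback.lift_base _ _ _ _).trans (Category.comp_id f).symm), ?_⟩
  exact Over.OverMorphism.ext (WidePullback.lift_base (fun _ : Fin 1 => f) f (fun _ => 𝟙 X) (fun _ => Category.id_comp f)).symm

theorem map_eq_of_dd {P : (Over Y)ᵒᵖ ⥤ AddCommGrpCat.{u + 1}} {x : P.obj (op (pow f 0))}
    (hx : dd f P 0 x = 0) {Z : Over Y} (a b : Z ⟶ pow f 0) : P.map a.op x = P.map b.op x := by
  let c : Z ⟶ pow f 1 := Over.homMk (WidePullback.lift Z.hom
    ![a.left ≫ WidePullback.π (fun _ : Fin 1 => f) 0, b.left ≫ WidePullback.π (fun _ : Fin 1 => f) 0] (by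
      intro j
      fin_cases j
      · exact (Category.assoc _ _ _).trans ((congrArg (a.left ≫ ·) (WidePullback.π_arrow _ _)).trans (Over.w a))
      · exact (Category.assoc _ _ _).trans ((congrArg (b.left ≫ ·) (WidePullback.π_arrow _ _)).trans (Over.w b))))
    (WidePullback.lift_base _ _ _ _)
  have h0 : c ≫ powMap f (0 : Fin 2).succAbove = b := pow_hom_ext f fun i => by
    obtain rfl : i = 0 := @Subsingleton.elim (Fin 1) _ _ _
    rw [Over.comp_left, Category.assoc, powMap_π]
    exact WidePullback.lift_π _ _ _ _ _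
  have h1 : c ≫ powMap f (1 : Fin 2).succAbove = a := pow_hom_ext f fun i => by
    obtain rfl : i = 0 := @Subsingleton.elim (Fin 1) _ _ _
    rw [Over.comp_left, Category.assoc, powMap_π]
    exact WidePullback.lift_π _ _ _ _ _
  have h := congrArg (P.map c.op) hx
  rw [dd_apply, Fin.sum_univ_two, map_add, map_zsmul, map_zsmul, map_op_comp, map_op_comp, h0, h1, map_zero] at h
  simp only [Fin.val_zero, pow_zero, one_smul, Fin.val_one, pow_one, neg_smul] at h
  exact (sub_eq_zero.1 (by rw [sub_eq_add_neg]; exact h)).symm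

/-- The augmentation of the Cech complex. -/
noncomputable def augC (G : EtFppf.AbF Y) : (secTop (Y := Y)).obj G ⟶ (powCx f G.obj).homology 0 :=
  EtDescSplit.augToHomology f G.obj

theorem isIso_augC (G : EtFppf.AbF Y) : IsIso (augC f G) := by
  have hsh : Presieve.IsSheafFor (G.obj ⋙ forget _)
      (Presieve.ofArrows (fun _ : PUnit.{1} => pow f 0) (fun _ => aug f 0)) :=
    (Presieve.isSheafFor_iff_generate _).2 (((isSheaf_iff_isSheaf_of_type _ _).1
      (Presheaf.isSheaf_comp_of_isSheaf _ _ _ G.property) _ (aug_mem f)))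
  rw [Presieve.isSheafFor_arrows_iff] at hsh
  let Z := powCx f G.obj
  have hinj : Function.Injective (Z.iCycles 0) := (AddCommGrpCat.mono_iff_injective _).1 inferInstance
  have hπi : IsIso (Z.homologyπ 0) := Z.isIso_homologyπ 0 0 (by simp) (Z.shape 0 0 (by simp))
  have hπ : Function.Bijective (Z.homologyπ 0) := (ConcreteCategory.isIso_iff_bijective _).1 inferInstance
  let l := Z.liftCycles (G.obj.map (aug f 0).op) 1 (by simp) (by
    ext t; exact (d_eq f G.obj 0 _).trans (EtDescSplit.aug_d f G.obj t))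
  have hl : ∀ t, Z.iCycles 0 (l t) = G.obj.map (aug f 0).op t :=
    fun t => ConcreteCategory.congr_hom (Z.liftCycles_i _ 1 (by simp) _) t
  have he : augC f G = l ≫ Z.homologyπ 0 := rfl
  rw [he, ConcreteCategory.isIso_iff_bijective]
  refine hπ.comp ⟨fun a b h => ?_, fun z => ?_⟩
  · have h' : G.obj.map (aug f 0).op a = G.obj.map (aug f 0).op b :=
      (hl a).symm.trans ((congrArg (Z.iCycles 0) h).trans (hl b))
    exact (hsh (fun _ => G.obj.map (aug f 0).op a) (fun i j Z' gi gj he => by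
      show G.obj.map gi.op (G.obj.map (aug f 0).op a) = G.obj.map gj.op (G.obj.map (aug f 0).op a)
      rw [map_op_comp, map_op_comp, he])).unique (fun _ => rfl) (fun _ => h'.symm)
  · let σ : G.obj.obj (op (pow f 0)) := Z.iCycles 0 z
    have hσ : dd f G.obj 0 σ = 0 :=
      (d_eq f G.obj 0 σ).symm.trans (ConcreteCategory.congr_hom (Z.iCycles_d 0 1) z)
    obtain ⟨t, ht, -⟩ := hsh (fun _ => σ) (fun i j Z' gi gj _ => map_eq_of_dd f hσ gi gj)
    exact ⟨t, hinj ((hl t).trans (ht ⟨⟩))⟩

theorem augC_natural {G G' : EtFppf.AbF Y} (g : G ⟶ G') :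
    (secTop (Y := Y)).map g ≫ augC f G' = augC f G ≫ HomologicalComplex.homologyMap ((cechF f).map g) 0 := by
  refine Eq.trans (Category.assoc _ _ _).symm (Eq.trans (congrArg (· ≫ _) ?_)
    ((Category.assoc _ _ _).trans ((congrArg (_ ≫ ·)
      (HomologicalComplex.homologyπ_naturality ((cechF f).map g) 0).symm).trans (Category.assoc _ _ _).symm)))
  refine (cancel_mono ((powCx f G'.obj).iCycles 0)).1 ?_
  refine (Category.assoc _ _ _).trans ((congrArg (_ ≫ ·) (HomologicalComplex.liftCycles_i _ _ 1 _ _)).trans ?_)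
  refine Eq.trans ?_ ((Category.assoc _ _ _).trans ((congrArg (_ ≫ ·)
    (HomologicalComplex.cyclesMap_i ((cechF f).map g) 0)).trans
      (HomologicalComplex.liftCycles_i_assoc _ _ 1 _ _ _))).symm
  exact (g.hom.naturality (aug f 0).op).symm

end Groth.Agent.EtFlatDesc
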