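import Groth.Agent.EtFlatDesc.Level
import Groth.Agent.EtDescSplit.PrependPage
import Groth.Agent.HyperLib.HyperSS

/-!
# The descent spectral sequence of a flat surjective morphism of finite presentation
-/

set_option autoImplicit false

universe u

open CategoryTheory CategoryTheory.Limits AlgebraicGeometry Opposite

namespace Groth.Agent.EtFlatDesc

set_option backward.isDefEq.respectTransparency.types false

open EtDescSplit (pow)
open SpObjSS (hZero)

variable {X Y : Scheme.{u}} (f : X ⟶ Y) [Flat f] [LocallyOfFinitePresentation f] [Surjective f]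

/-- Degree zero Cech cohomology is the global sections functor. -/
noncomputable def augNatIso :
    cechF f ⋙ hZero (𝟭 (CochainComplex AddCommGrpCat.{u + 1} ℕ)) ≅ secTop (Y := Y) :=
  (NatIso.ofComponents (F := secTop (Y := Y))
    (G := cechF f ⋙ hZero (𝟭 (CochainComplex AddCommGrpCat.{u + 1} ℕ)))
    (fun G => @asIso _ _ _ _ (augC f G) (isIso_augC f G)) (fun g => augC_natural f g)).symm

omit [Flat f] [LocallyOfFinitePresentation f] [Surjective f] in
theorem nonempty_level (F : EtCoh.Ab Y) (p q : ℕ) :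
    Nonempty ((((cechF f).rightDerived q).obj ((EtFppf.aPull Y).obj F)).X p ≅
      AddCommGrpCat.of (EtCoh.H (pow f p).left ((EtCoh.pull (pow f p).hom).obj F) q)) := by
  let E := HomologicalComplex.eval AddCommGrpCat.{u + 1} (ComplexShape.up ℕ) p
  let e₁ : cechF f ⋙ E ≅ sheafToPresheaf (EtFppf.J Y) AddCommGrpCat.{u + 1} ⋙
      (evaluation (Over Y)ᵒᵖ AddCommGrpCat.{u + 1}).obj (op (Over.mk (pow f p).hom)) :=
    NatIso.ofComponents (fun G => Iso.refl _) (fun _ => (Category.comp_id _).trans (Category.id_comp _).symm)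
  obtain ⟨e⟩ := nonempty_rightDerived_secAt (pow f p).hom F q
  exact ⟨((SiteBase.rightDerivedCompIso (cechF f) E q).app _).symm ≪≫
    (SiteBase.rightDerivedCongr e₁ q).app _ ≪≫ e⟩

theorem nonempty_abut (F : EtCoh.Ab Y) (n : ℕ) :
    Nonempty (((cechF f ⋙ hZero (𝟭 (CochainComplex AddCommGrpCat.{u + 1} ℕ))).rightDerived n).obj
      ((EtFppf.aPull Y).obj F) ≅ AddCommGrpCat.of (EtCoh.H Y F n)) := by
  obtain ⟨e⟩ := nonempty_rightDerived_secTop ((EtFppf.aPull Y).obj F) n
  obtain ⟨e'⟩ := BigSiteLib.FppfDesc.H_iso Y F n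
  exact ⟨(SiteBase.rightDerivedCongr (augNatIso f) n).app _ ≪≫ e ≪≫ AddEquiv.toAddCommGrpIso e'.symm⟩

/-- The descent spectral sequence. -/
theorem exists_flat_descentSS (F : EtCoh.Ab Y) :
    ∃ (E : CohomologicalSpectralSequence AddCommGrpCat.{u + 1} 1)
      (a : SpSeq.Abutment E (fun n : ℤ =>
        if 0 ≤ n then AddCommGrpCat.of (EtCoh.H Y F n.toNat) else AddCommGrpCat.of PUnit.{u + 2})),
      (∀ n, a.IsFinite n) ∧ SpSeq.IsBounded E ∧
      ∀ p q : ℤ, Nonempty ((E.page 1 le_rfl).X (p, q) ≅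
        (if 0 ≤ p ∧ 0 ≤ q then
          AddCommGrpCat.of (EtCoh.H (pow f p.toNat).left ((EtCoh.pull (pow f p.toNat).hom).obj F) q.toNat)
         else AddCommGrpCat.of PUnit.{u + 2})) := by
  let Ch := CochainComplex AddCommGrpCat.{u + 1} ℕ
  have hid : ∀ S : ShortComplex Ch, S.ShortExact → (S.map (𝟭 Ch)).ShortExact := fun S hS => hS
  have hI : ∀ I : Ch, Injective I → ∀ p : ℕ, ((𝟭 Ch).obj I).ExactAt (p + 1) := fun I hI p =>
    HyperLib.exactAt_of_injective I p
  have := SpObjSS.preservesFiniteLimits_hZero (𝟭 Ch) hid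
  obtain ⟨E, a, ha, -, hE⟩ := SpObjSS.exists_grothendieck_spectralSequence' (cechF f) (hZero (𝟭 Ch))
    (fun Q hQ i hi => by
      obtain ⟨j, rfl⟩ := Nat.exists_eq_succ_of_ne_zero hi.ne'
      exact IsZero.of_iso ((HomologicalComplex.exactAt_iff_isZero_homology _ _).1 (exactAt_cechF f Q j))
        (SpObjSS.nonempty_rightDerived_hZero_iso (𝟭 Ch) hid hI (j + 1) _).some) ((EtFppf.aPull Y).obj F)
    (fun n => AddCommGrpCat.of (EtCoh.H Y F n)) (nonempty_abut f F)
    (fun p q => (((cechF f).rightDerived q).obj ((EtFppf.aPull Y).obj F)).homology p)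
    (fun p q => SpObjSS.nonempty_rightDerived_hZero_iso (𝟭 Ch) hid hI p _)
    (AddCommGrpCat.of PUnit.{u + 2}) (AddCommGrpCat.isZero_of_subsingleton _)
  refine EtDescSplit.exists_spectralSequence_of_pageTwo
    (fun q => ((cechF f).rightDerived q).obj ((EtFppf.aPull Y).obj F))
    (E := E) (fun p q => ?_) (fun p q h => ?_) a ha _ (fun p q => ?_) (fun p q h => ?_)
  · exact ⟨(hE p q).some ≪≫ eqToIso (by rw [if_pos ⟨Int.natCast_nonneg p, Int.natCast_nonneg q⟩]; rfl)⟩
  · obtain ⟨e⟩ := hE p q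
    rw [if_neg (by rintro ⟨h₁, h₂⟩; omega)] at e
    exact (AddCommGrpCat.isZero_of_subsingleton _).of_iso e
  · exact ⟨(nonempty_level f F p q).some ≪≫
      eqToIso (by rw [if_pos ⟨Int.natCast_nonneg p, Int.natCast_nonneg q⟩]; rfl)⟩
  · rw [if_neg (by rintro ⟨h₁, h₂⟩; omega)]
    exact AddCommGrpCat.isZero_of_subsingleton _

end Groth.Agent.EtFlatDesc
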